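import Mathlib.Algebra.Module.PID
import Mathlib.Algebra.Polynomial.Module.FiniteDimensional
import Mathlib.LinearAlgebra.Matrix.Charpoly.Coeff
import Mathlib.LinearAlgebra.Matrix.MvPolynomial
import Mathlib.LinearAlgebra.Matrix.NonsingularInverse
import Mathlib.LinearAlgebra.Matrix.ToLin
import Mathlib.RingTheory.Flat.Basic
import Mathlib.RingTheory.Flat.Stability
import Mathlib.RingTheory.Flat.Localization
import Mathlib.RingTheory.Localization.Away.Basic
import Mathlib.RingTheory.Ideal.Quotient.Operations

/-!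
# Regular matrices

A matrix over a commutative ring whose fibres have commutant of dimension `n` has, locally, a
cyclic vector; consequently its commutant is, universally, the image of an explicit linear
projection with values in the polynomials in the matrix.
-/

universe u

open Matrix Polynomial
open scoped BigOperators

namespace Groth.Agent.SprLib

variable {n : ℕ}

/-- The Krylov matrix with columns `v, g v, …, g^(n-1) v`. -/
def krylov {A : Type*} [CommRing A] (g : Matrix (Fin n) (Fin n) A) (v : Fin n → A) :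
    Matrix (Fin n) (Fin n) A :=
  Matrix.of fun i j => ((g ^ (j : ℕ)) *ᵥ v) i

theorem krylov_mulVec {A : Type*} [CommRing A] (g : Matrix (Fin n) (Fin n) A) (v c : Fin n → A) :
    krylov g v *ᵥ c = (∑ j, c j • g ^ (j : ℕ)) *ᵥ v := by
  ext i
  simp only [Matrix.sum_mulVec, Finset.sum_apply, Matrix.smul_mulVec, Pi.smul_apply, smul_eq_mul]
  simp [krylov, Matrix.mulVec, dotProduct, mul_comm]

theorem map_mulVec' {A B : Type*} [CommRing A] [CommRing B] (φ : A →+* B)
    (g : Matrix (Fin n) (Fin n) A) (v : Fin n → A) :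
    φ ∘ (g *ᵥ v) = g.map φ *ᵥ (φ ∘ v) := by
  ext i
  exact φ.map_mulVec g v i

theorem krylov_map {A B : Type*} [CommRing A] [CommRing B] (φ : A →+* B)
    (g : Matrix (Fin n) (Fin n) A) (v : Fin n → A) :
    (krylov g v).map φ = krylov (g.map φ) (φ ∘ v) := by
  ext i j
  simp only [krylov, Matrix.map_apply, Matrix.of_apply]
  rw [← Matrix.map_pow, ← map_mulVec']
  rfl

section Field

variable {K : Type u} [Field K]

theorem exists_cyclic (g : Matrix (Fin n) (Fin n) K)
    (h : Module.finrank K (Subalgebra.centralizer K ({g} : Set (Matrix (Fin n) (Fin n) K))) = n) :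
    ∃ v : Fin n → K, ∀ w : Fin n → K, ∃ p : K[X], (aeval g p) *ᵥ v = w := by
  classical
  let φ : Module.End K (Fin n → K) := Matrix.toLin' g
  haveI : Module.Finite K (Module.AEval' φ) := Module.Finite.equiv (Module.AEval'.of φ)
  haveI : Module.Finite K[X] (Module.AEval' φ) := Module.Finite.of_restrictScalars_finite K _ _
  have ht : Module.IsTorsion K[X] (Module.AEval' φ) :=
    Module.AEval.isTorsion_of_finiteDimensional K (Fin n → K) φ
  obtain ⟨ι, hι, p, hp, e, ⟨Ψ₀⟩⟩ := Module.equiv_directSum_of_isTorsion ht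
  let q : ι → K[X] := fun i => p i ^ e i
  let M : ι → Type u := fun i => K[X] ⧸ Submodule.span K[X] {q i}
  let Ψ : Module.AEval' φ ≃ₗ[K[X]] (∀ i, K[X] ⧸ Submodule.span K[X] {q i}) :=
    Ψ₀.trans (DirectSum.linearEquivFunOnFintype K[X] ι _)
  -- the map to matrices
  let toM : Module.End K[X] (Module.AEval' φ) →ₗ[K] Matrix (Fin n) (Fin n) K :=
    { toFun := fun f => LinearMap.toMatrix'
        ((Module.AEval'.of φ).symm.toLinearMap ∘ₗ f.restrictScalars K ∘ₗ
          (Module.AEval'.of φ).toLinearMap)
      map_add' := fun f f' => by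
        rw [← map_add]; rfl
      map_smul' := fun c f => by
        rw [RingHom.id_apply, ← map_smul]; rfl }
  have htoM : Function.Injective toM := by
    intro f f' hff
    have hff' := hff
    simp only [toM, LinearMap.coe_mk, AddHom.coe_mk] at hff'
    have h' := LinearMap.toMatrix'.injective hff'
    refine LinearMap.ext fun x => ?_
    have := LinearMap.congr_fun h' ((Module.AEval'.of φ).symm x)
    simpa using this
  have hcom : ∀ f, toM f ∈ Subalgebra.centralizer K ({g} : Set (Matrix (Fin n) (Fin n) K)) := by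
    intro f
    rw [Subalgebra.mem_centralizer_iff]
    intro y hy
    rw [Set.mem_singleton_iff] at hy
    subst hy
    apply Matrix.toLin'.injective
    rw [Matrix.toLin'_mul, Matrix.toLin'_mul]
    refine LinearMap.ext fun x => ?_
    simp only [toM, LinearMap.coe_mk, AddHom.coe_mk, Matrix.toLin'_toMatrix', LinearMap.comp_apply,
      LinearEquiv.coe_coe, LinearMap.restrictScalars_apply]
    have h1 : Module.AEval'.of φ (φ x) =
        (Polynomial.X : K[X]) • Module.AEval'.of φ x := (Module.AEval'.X_smul_of φ x).symm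
    show φ ((Module.AEval'.of φ).symm (f (Module.AEval'.of φ x))) = _
    show _ = (Module.AEval'.of φ).symm (f (Module.AEval'.of φ (φ x)))
    rw [h1, map_smul, Module.AEval'.of_symm_X_smul]
  by_cases hco : Pairwise fun i j => IsCoprime (Ideal.span {q i}) (Ideal.span {q j})
  · -- Chinese remainder theorem
    refine ⟨(Module.AEval'.of φ).symm (Ψ.symm fun i => Submodule.Quotient.mk 1), fun w => ?_⟩
    obtain ⟨r, hr⟩ := Ideal.pi_quotient_surjective hco (Ψ (Module.AEval'.of φ w))
    refine ⟨r, ?_⟩
    have h1 : (r • fun i => (Submodule.Quotient.mk 1 : K[X] ⧸ Submodule.span K[X] {q i})) =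
        Ψ (Module.AEval'.of φ w) := by
      funext i
      rw [Pi.smul_apply, ← Submodule.Quotient.mk_smul, smul_eq_mul, mul_one, ← hr i]
      rfl
    have h2 : r • Ψ.symm (fun i => Submodule.Quotient.mk 1) = Module.AEval'.of φ w := by
      rw [← map_smul, h1, LinearEquiv.symm_apply_apply]
    have h3 := congrArg (Module.AEval'.of φ).symm h2
    rw [LinearEquiv.symm_apply_apply, Module.AEval.of_symm_smul] at h3
    have h4 : aeval φ r = Matrix.toLinAlgEquiv' (aeval g r) :=
      Polynomial.aeval_algHom_apply (Matrix.toLinAlgEquiv' (R := K) (n := Fin n)).toAlgHom g r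
    rw [← h3, h4]
    rfl
  · -- an extra endomorphism
    exfalso
    simp only [Pairwise, not_forall, exists_prop] at hco
    obtain ⟨a, b, hab, hnc⟩ := hco
    rw [Ideal.isCoprime_span_singleton_iff] at hnc
    have hb0 : q b ≠ 0 := pow_ne_zero _ (hp b).ne_zero
    obtain ⟨π, hπ, hπa, hπb⟩ : ∃ π : K[X], ¬ IsUnit π ∧ π ∣ q a ∧ π ∣ q b := by
      by_contra hne
      push_neg at hne
      apply hnc
      refine EuclideanDomain.isCoprime_of_dvd (fun h0 => hb0 h0.2) ?_
      intro z hz _ hza hzb
      exact hne z hz hza hzb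
    obtain ⟨d, hd⟩ := hπb
    obtain ⟨d', hd'⟩ := hπa
    have hc : (Submodule.Quotient.mk d : K[X] ⧸ Submodule.span K[X] {q b}) ≠ 0 := by
      intro h0
      rw [Submodule.Quotient.mk_eq_zero, Submodule.mem_span_singleton] at h0
      obtain ⟨t, ht'⟩ := h0
      have hd0 : d ≠ 0 := by
        intro hd0; apply hb0; rw [hd, hd0, mul_zero]
      apply hπ
      refine IsUnit.of_mul_eq_one t ?_
      apply mul_right_cancel₀ hd0
      rw [smul_eq_mul, hd] at ht'
      rw [one_mul]
      linear_combination ht'
    let ψ : (K[X] ⧸ Submodule.span K[X] {q a}) →ₗ[K[X]] (K[X] ⧸ Submodule.span K[X] {q b}) :=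
      Submodule.liftQ _ ((Submodule.mkQ _).comp (LinearMap.mulRight K[X] d)) (by
        rw [Submodule.span_le, Set.singleton_subset_iff, SetLike.mem_coe, LinearMap.mem_ker]
        simp only [LinearMap.comp_apply, LinearMap.mulRight_apply, Submodule.mkQ_apply,
          Submodule.Quotient.mk_eq_zero]
        rw [Submodule.mem_span_singleton]
        exact ⟨d', by rw [smul_eq_mul, hd, hd']; ring⟩)
    let P := ∀ i, K[X] ⧸ Ideal.span {q i}
    let Φ : (P × K) →ₗ[K] Module.End K[X] P :=
      { toFun := fun mc => LinearMap.mulLeft K[X] mc.1 +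
          mc.2 • ((LinearMap.single K[X] (fun i => K[X] ⧸ Ideal.span {q i}) b).comp
            (ψ.comp (LinearMap.proj a)))
        map_add' := fun x y => by
          refine LinearMap.ext fun z => ?_
          simp [add_mul, add_smul]
          abel
        map_smul' := fun c x => by
          refine LinearMap.ext fun z => ?_
          simp [smul_mul_assoc, mul_smul] }
    have hΦ : Function.Injective Φ := by
      rw [injective_iff_map_eq_zero]
      rintro ⟨m, c⟩ h0
      have h1 := LinearMap.congr_fun h0 (Pi.single a 1)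
      have hψ1 : ψ ((Pi.single a 1 : P) a) = Submodule.Quotient.mk d := by
        rw [Pi.single_eq_same]
        exact congrArg Submodule.Quotient.mk (one_mul d)
      have hc0 : c = 0 := by
        have h2 : (m * (Pi.single a 1 : P) + c • (Pi.single b (ψ ((Pi.single a 1 : P) a)) : P)) b =
            (0 : P) b := congr_fun h1 b
        rw [Pi.add_apply, Pi.mul_apply, Pi.smul_apply, Pi.single_eq_same b,
          Pi.single_eq_of_ne hab.symm, mul_zero, zero_add, hψ1] at h2
        by_contra hc0
        exact hc ((smul_eq_zero_iff_right hc0).1 h2)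
      subst hc0
      have h3 := LinearMap.congr_fun h0 1
      simp only [Φ, LinearMap.coe_mk, AddHom.coe_mk, LinearMap.add_apply, LinearMap.smul_apply,
        LinearMap.mulLeft_apply, mul_one, zero_smul, add_zero, LinearMap.zero_apply] at h3
      simp [h3]
    let conj : Module.End K[X] P →ₗ[K] Module.End K[X] (Module.AEval' φ) :=
      { toFun := fun f => Ψ.symm.toLinearMap ∘ₗ f ∘ₗ Ψ.toLinearMap
        map_add' := fun f f' => LinearMap.ext fun x => Ψ.symm.map_add _ _
        map_smul' := fun c f => LinearMap.ext fun x =>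
          (Ψ.symm.toLinearMap.restrictScalars K).map_smul c _ }
    have hconj : Function.Injective conj := by
      intro f f' hff
      refine LinearMap.ext fun x => ?_
      have := LinearMap.congr_fun hff (Ψ.symm x)
      simpa [conj] using this
    let T : (P × K) →ₗ[K] Subalgebra.centralizer K ({g} : Set (Matrix (Fin n) (Fin n) K)) :=
      ((toM.comp (conj.comp Φ)).codRestrict
        (Subalgebra.toSubmodule (Subalgebra.centralizer K ({g} : Set (Matrix (Fin n) (Fin n) K))))
        fun x => hcom ((conj.comp Φ) x))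
    have hT : Function.Injective T := fun x y hxy =>
      hΦ (hconj (htoM (congrArg Subtype.val hxy)))
    let eK : (Fin n → K) ≃ₗ[K] P := (Module.AEval'.of φ).trans (Ψ.restrictScalars K)
    haveI : Module.Finite K P := Module.Finite.equiv eK
    have hle := LinearMap.finrank_le_finrank_of_injective hT
    rw [Module.finrank_prod, ← eK.finrank_eq, Module.finrank_fin_fun, Module.finrank_self] at hle
    omega

theorem exists_isUnit_det_krylov (g : Matrix (Fin n) (Fin n) K)
    (h : Module.finrank K (Subalgebra.centralizer K ({g} : Set (Matrix (Fin n) (Fin n) K))) = n) :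
    ∃ v : Fin n → K, IsUnit (krylov g v).det := by
  obtain ⟨v, hv⟩ := exists_cyclic g h
  refine ⟨v, (Matrix.isUnit_iff_isUnit_det _).1 (Matrix.mulVec_surjective_iff_isUnit.1 ?_)⟩
  intro w
  obtain ⟨p, hp⟩ := hv w
  refine ⟨fun j => (p %ₘ g.charpoly).coeff j, ?_⟩
  rw [krylov_mulVec, ← hp]
  congr 1
  have hm : g.charpoly.Monic := Matrix.charpoly_monic g
  have h1 : aeval g (p %ₘ g.charpoly) = aeval g p := by
    conv_rhs => rw [← Polynomial.modByMonic_add_div p g.charpoly]
    rw [map_add, map_mul, Matrix.aeval_self_charpoly, zero_mul, add_zero]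
  rw [← h1]
  by_cases hr : p %ₘ g.charpoly = 0
  · simp [hr]
  rw [Polynomial.aeval_eq_sum_range' (n := n)]
  · exact (Finset.sum_range (fun j => (p %ₘ g.charpoly).coeff j • g ^ j)).symm
  · have := Polynomial.natDegree_lt_natDegree hr (Polynomial.degree_modByMonic_lt p hm)
    rwa [Matrix.charpoly_natDegree_eq_dim, Fintype.card_fin] at this

end Field

/-- Fibrewise regularity. -/
def IsRegular {A : Type u} [CommRing A] (g : Matrix (Fin n) (Fin n) A) : Prop :=
  ∀ (K : Type u) [Field K] (φ : A →+* K),
    Module.finrank K (Subalgebra.centralizer K ({g.map φ} : Set (Matrix (Fin n) (Fin n) K))) = n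

theorem IsRegular.span_det_krylov {A : Type u} [CommRing A] {g : Matrix (Fin n) (Fin n) A}
    (hreg : IsRegular g) :
    Ideal.span (Set.range fun v : Fin n → A => (krylov g v).det) = ⊤ := by
  by_contra hne
  obtain ⟨m, hm, hle⟩ := Ideal.exists_le_maximal _ hne
  letI : Field (A ⧸ m) := Ideal.Quotient.field m
  let π : A →+* A ⧸ m := Ideal.Quotient.mk m
  obtain ⟨w, hw⟩ := exists_isUnit_det_krylov _ (hreg (A ⧸ m) π)
  choose l hl using fun i => Ideal.Quotient.mk_surjective (I := m) (w i)
  have hlw : π ∘ l = w := funext hl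
  have h0 : π (krylov g l).det = 0 := Ideal.Quotient.eq_zero_iff_mem.2
    (hle (Ideal.subset_span ⟨l, rfl⟩))
  rw [RingHom.map_det, RingHom.mapMatrix_apply, krylov_map, hlw] at h0
  exact hw.ne_zero h0

theorem IsRegular.exists_finset {A : Type u} [CommRing A] {g : Matrix (Fin n) (Fin n) A}
    (hreg : IsRegular g) :
    ∃ (s : Finset (Fin n → A)) (a : (Fin n → A) → A),
      ∑ v ∈ s, a v * (krylov g v).det ^ 2 = 1 := by
  have h := Ideal.span_pow_eq_top _ hreg.span_det_krylov 2
  rw [← Set.range_comp, Ideal.eq_top_iff_one, Ideal.span,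
    Finsupp.mem_span_range_iff_exists_finsupp] at h
  obtain ⟨c, hc⟩ := h
  exact ⟨c.support, c, by simpa [Finsupp.sum] using hc⟩

section Proj

variable {B C : Type*} [CommRing B] [CommRing C] {ι : Type*}

/-- The projection onto the commutant of `g`. -/
def cProj (g : Matrix (Fin n) (Fin n) B) (s : Finset ι) (a : ι → B) (v : ι → Fin n → B)
    (x : Matrix (Fin n) (Fin n) B) : Matrix (Fin n) (Fin n) B :=
  ∑ i ∈ s, (a i * (krylov g (v i)).det) •
    ∑ j : Fin n, ((krylov g (v i)).adjugate *ᵥ (x *ᵥ v i)) j • g ^ (j : ℕ)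

variable (g : Matrix (Fin n) (Fin n) B) (s : Finset ι) (a : ι → B) (v : ι → Fin n → B)

theorem commute_cProj (x : Matrix (Fin n) (Fin n) B) {y : Matrix (Fin n) (Fin n) B}
    (hy : Commute g y) : Commute (cProj g s a v x) y :=
  Commute.sum_left _ _ _ fun _ _ => Commute.smul_left
    (Commute.sum_left _ _ _ fun _ _ => Commute.smul_left (hy.pow_left _) _) _

theorem det_smul_eq (x : Matrix (Fin n) (Fin n) B) (hx : Commute x g) (w : Fin n → B) :
    (krylov g w).det • ((krylov g w).det • x) =
      (krylov g w).det • ∑ j : Fin n, ((krylov g w).adjugate *ᵥ (x *ᵥ w)) j • g ^ (j : ℕ) := by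
  set P := krylov g w with hP
  set S := ∑ j : Fin n, (P.adjugate *ᵥ (x *ᵥ w)) j • g ^ (j : ℕ) with hS
  set D := P.det • x - S with hD
  have hDg : Commute D g := (hx.smul_left _).sub_left
    (Commute.sum_left _ _ _ fun _ _ => Commute.smul_left ((Commute.refl g).pow_left _) _)
  have hDw : D *ᵥ w = 0 := by
    rw [hD, Matrix.sub_mulVec, hS, ← krylov_mulVec, Matrix.mulVec_mulVec, Matrix.mul_adjugate,
      Matrix.smul_mulVec, Matrix.smul_mulVec, Matrix.one_mulVec, sub_self]
  have hDP : D * P = 0 := by
    ext i j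
    have h1 : D *ᵥ (g ^ (j : ℕ) *ᵥ w) = 0 := by
      rw [Matrix.mulVec_mulVec, (hDg.pow_right _).eq, ← Matrix.mulVec_mulVec, hDw,
        Matrix.mulVec_zero]
    exact congr_fun h1 i
  have h2 : P.det • D = 0 := by
    have h3 := congrArg (· * P.adjugate) hDP
    simpa only [mul_assoc, Matrix.mul_adjugate, zero_mul, Matrix.mul_smul, mul_one] using h3
  rwa [hD, smul_sub, sub_eq_zero] at h2

theorem cProj_eq_self (h1 : ∑ i ∈ s, a i * (krylov g (v i)).det ^ 2 = 1)
    (x : Matrix (Fin n) (Fin n) B) (hx : Commute x g) : cProj g s a v x = x := by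
  have h2 : ∀ i ∈ s, (a i * (krylov g (v i)).det) •
      (∑ j : Fin n, ((krylov g (v i)).adjugate *ᵥ (x *ᵥ v i)) j • g ^ (j : ℕ)) =
      (a i * (krylov g (v i)).det ^ 2) • x := fun i _ => by
    rw [mul_smul, ← det_smul_eq g x hx, smul_smul, smul_smul, pow_two, mul_assoc]
  rw [cProj, Finset.sum_congr rfl h2, ← Finset.sum_smul, h1, one_smul]

theorem map_matrix_sum {κ : Type*} (ψ : B →+* C) (t : Finset κ)
    (f : κ → Matrix (Fin n) (Fin n) B) : (∑ k ∈ t, f k).map ψ = ∑ k ∈ t, (f k).map ψ :=
  map_sum ψ.mapMatrix f t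

theorem cProj_map (ψ : B →+* C) (x : Matrix (Fin n) (Fin n) B) :
    (cProj g s a v x).map ψ =
      cProj (g.map ψ) s (fun i => ψ (a i)) (fun i => ψ ∘ v i) (x.map ψ) := by
  unfold cProj
  rw [map_matrix_sum]
  refine Finset.sum_congr rfl fun i _ => ?_
  rw [Matrix.map_smul' ψ _ _ (map_mul ψ), map_matrix_sum]
  congr 1
  · rw [map_mul, RingHom.map_det, RingHom.mapMatrix_apply, krylov_map]
  refine Finset.sum_congr rfl fun j _ => ?_
  rw [Matrix.map_smul' ψ _ _ (map_mul ψ), Matrix.map_pow, ← krylov_map,
    ← RingHom.mapMatrix_apply ψ (krylov g (v i)), ← RingHom.map_adjugate, RingHom.mapMatrix_apply,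
    ← map_mulVec', ← map_mulVec']
  rfl

end Proj

section Regular

variable {A : Type u} [CommRing A] {g : Matrix (Fin n) (Fin n) A}

theorem IsRegular.sum_map {B : Type*} [CommRing B] (φ : A →+* B) {s : Finset (Fin n → A)}
    {a : (Fin n → A) → A} (h : ∑ v ∈ s, a v * (krylov g v).det ^ 2 = 1) :
    ∑ v ∈ s, φ (a v) * (krylov (g.map φ) (φ ∘ v)).det ^ 2 = 1 := by
  rw [← map_one φ, ← h, map_sum]
  refine Finset.sum_congr rfl fun v _ => ?_
  rw [map_mul, map_pow, RingHom.map_det, RingHom.mapMatrix_apply, krylov_map]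

/-- Two matrices commuting with a regular one commute. -/
theorem IsRegular.commute (hreg : IsRegular g) {B : Type*} [CommRing B] (φ : A →+* B)
    {x y : Matrix (Fin n) (Fin n) B} (hx : Commute x (g.map φ)) (hy : Commute y (g.map φ)) :
    Commute x y := by
  obtain ⟨s, a, h⟩ := hreg.exists_finset
  have := commute_cProj (g.map φ) s (fun v => φ (a v)) (fun v => φ ∘ v) x hy.symm
  rwa [cProj_eq_self (g.map φ) s _ _ (IsRegular.sum_map φ h) x hx] at this

/-- The ring of matrices commuting with a regular one is projective. -/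
theorem IsRegular.projective (hreg : IsRegular g) :
    Module.Projective A (MvPolynomial (Fin n × Fin n) A ⧸
      Ideal.span (Set.range fun ij : Fin n × Fin n =>
        (Matrix.mvPolynomialX (Fin n) (Fin n) A * g.map MvPolynomial.C -
          g.map MvPolynomial.C * Matrix.mvPolynomialX (Fin n) (Fin n) A :
            Matrix (Fin n) (Fin n) (MvPolynomial (Fin n × Fin n) A)) ij.1 ij.2)) := by
  obtain ⟨s, a, h⟩ := hreg.exists_finset
  set X := Matrix.mvPolynomialX (Fin n) (Fin n) A with hX
  set I := Ideal.span (Set.range fun ij : Fin n × Fin n =>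
      (X * g.map MvPolynomial.C - g.map MvPolynomial.C * X :
        Matrix (Fin n) (Fin n) (MvPolynomial (Fin n × Fin n) A)) ij.1 ij.2) with hI
  set gC := g.map (MvPolynomial.C : A →+* MvPolynomial (Fin n × Fin n) A) with hgC
  set Y := cProj gC s (fun v => MvPolynomial.C (a v)) (fun v => MvPolynomial.C ∘ v) X with hY
  let e : MvPolynomial (Fin n × Fin n) A →ₐ[A] MvPolynomial (Fin n × Fin n) A :=
    MvPolynomial.aeval fun ij => Y ij.1 ij.2
  have heX : X.map e.toRingHom = Y := by
    ext i j
    simp [e, hX, Matrix.mvPolynomialX]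
  have heC : gC.map e.toRingHom = gC := by
    ext i j
    simp [e, hgC]
  have hYg : Commute Y gC := commute_cProj _ _ _ _ _ (Commute.refl gC)
  have hle : ∀ z ∈ I, e z = 0 := by
    intro z hz
    have : I ≤ RingHom.ker e.toRingHom := by
      rw [hI, Ideal.span_le]
      rintro _ ⟨ij, rfl⟩
      have h1 : (X * gC - gC * X).map e.toRingHom = 0 := by
        rw [← RingHom.mapMatrix_apply, map_sub, map_mul, map_mul, RingHom.mapMatrix_apply,
          RingHom.mapMatrix_apply, heX, heC, hYg.eq, sub_self]
      exact congr_fun₂ h1 ij.1 ij.2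
    exact this hz
  let sq : (MvPolynomial (Fin n × Fin n) A ⧸ I) →ₐ[A] MvPolynomial (Fin n × Fin n) A :=
    Ideal.Quotient.liftₐ I e hle
  let mk : MvPolynomial (Fin n × Fin n) A →ₐ[A] MvPolynomial (Fin n × Fin n) A ⧸ I :=
    Ideal.Quotient.mkₐ A I
  have hmk : mk.comp e = mk := by
    refine MvPolynomial.algHom_ext fun ij => ?_
    have hx : Commute (X.map mk.toRingHom) (gC.map mk.toRingHom) := by
      rw [Commute, SemiconjBy, ← sub_eq_zero, ← RingHom.mapMatrix_apply, ← RingHom.mapMatrix_apply,
        ← map_mul, ← map_mul, ← map_sub, RingHom.mapMatrix_apply]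
      ext i j
      exact Ideal.Quotient.eq_zero_iff_mem.2 (Ideal.subset_span ⟨(i, j), rfl⟩)
    have hg : gC.map mk.toRingHom =
        g.map (mk.toRingHom.comp MvPolynomial.C) := by
      rw [hgC, Matrix.map_map]; rfl
    have h1 : Y.map mk.toRingHom = X.map mk.toRingHom := by
      rw [hY, cProj_map]
      refine cProj_eq_self _ _ _ _ ?_ _ hx
      rw [hg]
      exact IsRegular.sum_map (mk.toRingHom.comp MvPolynomial.C) h
    have h2 := congr_fun₂ h1 ij.1 ij.2
    simpa [e, hX, Matrix.mvPolynomialX] using h2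
  have hcomp : mk.comp sq = AlgHom.id A _ := by
    refine Ideal.Quotient.algHom_ext A ?_
    refine AlgHom.ext fun x => ?_
    exact DFunLike.congr_fun hmk x
  exact Module.Projective.of_split sq.toLinearMap mk.toLinearMap
    (congrArg AlgHom.toLinearMap hcomp)

end Regular

theorem flat_away_of_projective {A R : Type*} [CommRing A] [CommRing R] [Algebra A R]
    (h : Module.Projective A R) (f : R) : Module.Flat A (Localization.Away f) :=
  haveI : Module.Flat R (Localization.Away f) := IsLocalization.flat _ (Submonoid.powers f)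
  Module.Flat.trans A R _

theorem flat_away_quotient_of_projective {A P : Type*} [CommRing A] [CommRing P] [Algebra A P]
    (I : Ideal P) (h : Module.Projective A (P ⧸ I)) (f : P ⧸ I) :
    Module.Flat A (Localization.Away f) :=
  flat_away_of_projective h f

end Groth.Agent.SprLib
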